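import Mathlib
import Cfsg.Agent.H855.SpecE.Num
import Cfsg.Agent.H202.T.UpSp
import Cfsg.Agent.LieClassical.SympCenter

/-!
# S3469, task T2: `PSp₈(7^m)` has no element of order 98
-/

set_option autoImplicit false

universe u v

namespace Cfsg.Agent.H855.SpecE

open Cfsg Cfsg.Agent.H202.T Cfsg.Agent.H214.S69 Module

section Lin

variable {F V : Type*} [Field F] [AddCommGroup V] [Module F V] [FiniteDimensional F V]

omit [FiniteDimensional F V] in
theorem range_succ_le (N : Module.End F V) (i : ℕ) : LinearMap.range (N ^ (i + 1)) ≤ LinearMap.range (N ^ i) := by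
  rintro x ⟨y, rfl⟩
  exact ⟨N y, by rw [pow_succ, Module.End.mul_apply]⟩

/-- the ranges of the powers of a nilpotent endomorphism decrease strictly -/
theorem range_succ_lt (N : Module.End F V) {k : ℕ} (hk : N ^ k = 0) {i : ℕ} (hi : N ^ i ≠ 0) :
    LinearMap.range (N ^ (i + 1)) < LinearMap.range (N ^ i) := by
  refine lt_of_le_of_ne (range_succ_le N i) fun he => hi ?_
  have key : ∀ j y, ∃ t, (N ^ i) y = (N ^ (i + j)) t := by
    intro j
    induction j with
    | zero => intro y; exact ⟨y, rfl⟩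
    | succ j ih =>
      intro y
      have h1 : (N ^ i) y ∈ LinearMap.range (N ^ (i + 1)) := by rw [he]; exact ⟨y, rfl⟩
      obtain ⟨z, hz⟩ := h1
      obtain ⟨t, ht⟩ := ih z
      refine ⟨t, ?_⟩
      rw [← hz, pow_succ', Module.End.mul_apply, ht, ← add_assoc, pow_succ', Module.End.mul_apply]
  apply LinearMap.ext
  intro y
  obtain ⟨t, ht⟩ := key k y
  rw [ht, pow_add, hk, mul_zero]
  rfl

/-- an endomorphism commuting with a regular nilpotent one has only one eigenvalue -/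
theorem exists_sub_pow (hd : finrank F V = 8) {N S : Module.End F V} (h8 : N ^ 8 = 0) (h7 : N ^ 7 ≠ 0)
    (hc : S * N = N * S) : ∃ c : F, (S - algebraMap F (Module.End F V) c) ^ 8 = 0 := by
  have hne : ∀ i ≤ 7, N ^ i ≠ 0 := by
    intro i hi h0
    apply h7
    rw [show 7 = i + (7 - i) by omega, pow_add, h0, zero_mul]
  have hrank : ∀ j ≤ 7, j + 1 ≤ finrank F (LinearMap.range (N ^ (7 - j))) := by
    intro j
    induction j with
    | zero =>
      intro _
      rw [zero_add, Nat.sub_zero, Nat.one_le_iff_ne_zero]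
      intro h0
      rw [Submodule.finrank_eq_zero, LinearMap.range_eq_bot] at h0
      exact h7 h0
    | succ j ih =>
      intro hj
      have h1 := ih (by omega)
      have h2 := Submodule.finrank_lt_finrank_of_lt (range_succ_lt N h8 (hne (7 - (j + 1)) (by omega)))
      rw [show 7 - (j + 1) + 1 = 7 - j by omega] at h2
      omega
  have h1 := hrank 6 (by omega)
  rw [show 7 - 6 = 1 by norm_num, pow_one] at h1
  have h2 := Submodule.finrank_quotient_add_finrank (LinearMap.range N)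
  have h3 : finrank F (V ⧸ LinearMap.range N) ≤ 1 := by omega
  obtain ⟨v₀, hv₀⟩ := finrank_le_one_iff.1 h3
  have hS : LinearMap.range N ≤ (LinearMap.range N).comap S := by
    rintro x ⟨y, rfl⟩
    exact ⟨S y, by rw [← Module.End.mul_apply, ← hc, Module.End.mul_apply]⟩
  obtain ⟨c, hcc⟩ := hv₀ ((LinearMap.range N).mapQ (LinearMap.range N) S hS v₀)
  refine ⟨c, ?_⟩
  set T := S - algebraMap F (Module.End F V) c with hT
  have hT1 : ∀ v, ∃ w, T v = N w := by
    intro v
    obtain ⟨a, ha⟩ := hv₀ (Submodule.Quotient.mk v)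
    have h4 : (LinearMap.range N).mapQ (LinearMap.range N) S hS (Submodule.Quotient.mk v) =
        c • Submodule.Quotient.mk v := by
      rw [← ha, map_smul, ← hcc, smul_comm]
    rw [Submodule.mapQ_apply, ← Submodule.Quotient.mk_smul, Submodule.Quotient.eq] at h4
    obtain ⟨w, hw⟩ := h4
    refine ⟨w, ?_⟩
    rw [hw, hT, LinearMap.sub_apply, Module.algebraMap_end_apply]
  have hTN : T * N = N * T := by
    rw [hT, sub_mul, mul_sub, hc, Algebra.commutes]
  have hTk : ∀ k v, ∃ w, (T ^ k) v = (N ^ k) w := by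
    intro k
    induction k with
    | zero => intro v; exact ⟨v, rfl⟩
    | succ k ih =>
      intro v
      obtain ⟨w, hw⟩ := ih v
      obtain ⟨w', hw'⟩ := hT1 w
      refine ⟨w', ?_⟩
      have h5 : T * N ^ k = N ^ k * T := ((show Commute T N from hTN).pow_right k).eq
      rw [pow_succ', Module.End.mul_apply, hw, ← Module.End.mul_apply, h5, Module.End.mul_apply, hw', pow_succ,
        Module.End.mul_apply]
  apply LinearMap.ext
  intro v
  obtain ⟨w, hw⟩ := hTk 8 v
  rw [hw, h8]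
  rfl

end Lin

/-- matrices -/
theorem scalar_of_commute {ι : Type*} [Fintype ι] [DecidableEq ι] [Nonempty ι] (hι : Fintype.card ι = 8)
    {F : Type*} [Field F] [CharP F 7] {N S : Matrix ι ι F} (hN : N ^ 49 = 0) (h7 : N ^ 7 ≠ 0) (hc : S * N = N * S)
    (h4 : S ^ 4 = 1) : ∃ c : F, S = c • (1 : Matrix ι ι F) := by
  have : Fact (Nat.Prime 7) := ⟨by norm_num⟩
  let e := Matrix.toLinAlgEquiv' (R := F) (n := ι)
  have hd : finrank F (ι → F) = 8 := by rw [finrank_fintype_fun_eq_card, hι]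
  have hnil : IsNilpotent (e N) := ⟨49, by rw [← map_pow, hN, map_zero]⟩
  have h8 : (e N) ^ 8 = 0 := by
    have h1 := LinearMap.aeval_self_charpoly (e N)
    rw [hnil.charpoly_eq_X_pow_finrank, hd, map_pow, Polynomial.aeval_X] at h1
    exact h1
  have h7' : (e N) ^ 7 ≠ 0 := by
    rw [← map_pow]
    intro h0
    exact h7 (e.injective (h0.trans (map_zero e).symm))
  have hc' : e S * e N = e N * e S := by rw [← map_mul, hc, map_mul]
  obtain ⟨c, hcc⟩ := exists_sub_pow hd h8 h7' hc'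
  refine ⟨c ^ 49, ?_⟩
  have h5 : (S - algebraMap F (Matrix ι ι F) c) ^ 8 = 0 := by
    apply e.injective
    rw [map_pow, map_sub, AlgEquiv.commutes, hcc, map_zero]
  have h6 : (S - algebraMap F (Matrix ι ι F) c) ^ 7 ^ 2 = 0 := by
    rw [show 7 ^ 2 = 8 + 41 by norm_num, pow_add, h5, zero_mul]
  rw [sub_pow_char_pow_of_commute (p := 7) (n := 2) (Algebra.commutes c S).symm, sub_eq_zero] at h6
  have h9 : S ^ 7 ^ 2 = S := by
    rw [show 7 ^ 2 = 4 * 12 + 1 by norm_num, pow_succ, pow_mul, h4, one_pow, one_mul]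
  rw [h9, ← map_pow, Algebra.algebraMap_eq_smul_one] at h6
  exact h6

/-- `PSp₈(7^m)` has no element of order 98 -/
theorem no98 {F : Type*} [Field F] [Fintype F] [CharP F 7] (x : PSp 4 F) : orderOf x ≠ 98 := by
  intro hx
  have : Fact (Nat.Prime 7) := ⟨by norm_num⟩
  obtain ⟨g, rfl⟩ := QuotientGroup.mk_surjective x
  have hpow : ∀ k : ℕ, (g ^ k) ∈ Subgroup.center (Matrix.symplecticGroup (Fin 4) F) → 98 ∣ k := by
    intro k hk
    rw [← hx]
    apply orderOf_dvd_of_pow_eq_one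
    rw [← QuotientGroup.mk_pow, QuotientGroup.eq_one_iff]
    exact hk
  have h98 : g ^ 98 ∈ Subgroup.center (Matrix.symplecticGroup (Fin 4) F) := by
    rw [← QuotientGroup.eq_one_iff, QuotientGroup.mk_pow, ← hx, pow_orderOf_eq_one]
  have h196 : g ^ 196 = 1 := by
    obtain ⟨a, ha⟩ := (LieClassical.SympCenter.mem_center_iff 4 (g ^ 98)).1 h98
    have h1 := (SymplecticGroup.mem_iff).1 (g ^ 98).2
    rw [ha, Matrix.transpose_smul, Matrix.transpose_one, smul_mul_assoc, one_mul, mul_smul_comm, mul_one,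
      smul_smul] at h1
    have h3 : (a * a) • (Matrix.J (Fin 4) F * Matrix.J (Fin 4) F) = Matrix.J (Fin 4) F * Matrix.J (Fin 4) F := by
      rw [← smul_mul_assoc, h1]
    rw [Matrix.J_squared, smul_neg, neg_inj] at h3
    have h5 : g ^ 196 = g ^ 98 * g ^ 98 := by rw [← pow_add]
    rw [h5]
    apply Subtype.ext
    rw [Submonoid.coe_mul, ha, smul_mul_smul_comm, mul_one, h3]
    rfl
  -- `g = s u` with `s = g ^ 49`, `u = g ^ 148`
  set N : Matrix (Fin 4 ⊕ Fin 4) (Fin 4 ⊕ Fin 4) F := (g ^ 148).1 - 1 with hN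
  have hNp : ∀ k : ℕ, N ^ 7 ^ k = (g ^ (148 * 7 ^ k)).1 - 1 := by
    intro k
    rw [hN, sub_pow_char_pow_of_commute (p := 7) (n := k) (Commute.one_right _), one_pow,
      ← SubmonoidClass.coe_pow, ← pow_mul]
  have h49 : N ^ 49 = 0 := by
    have h1 := hNp 2
    have h2 : g ^ (148 * 7 ^ 2) = 1 := by
      rw [show 148 * 7 ^ 2 = 196 * 37 by norm_num, pow_mul, h196, one_pow]
    rw [h2] at h1
    have h3 : ((1 : Matrix.symplecticGroup (Fin 4) F) : Matrix (Fin 4 ⊕ Fin 4) (Fin 4 ⊕ Fin 4) F) = 1 := rfl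
    rw [h3, sub_self] at h1
    exact h1
  have h7 : N ^ 7 ≠ 0 := by
    intro h0
    have h1 := hNp 1
    rw [pow_one, h0, eq_comm, sub_eq_zero] at h1
    have h2 : g ^ (148 * 7) = 1 := Subtype.ext h1
    have h3 := hpow (148 * 7) (by rw [h2]; exact Subgroup.one_mem _)
    omega
  have hc : (g ^ 49).1 * N = N * (g ^ 49).1 := by
    rw [hN, mul_sub, sub_mul, mul_one, one_mul, ← Submonoid.coe_mul, ← Submonoid.coe_mul, ← pow_add, ← pow_add,
      add_comm 49 148]
  obtain ⟨c, hcc⟩ := scalar_of_commute (by simp) h49 h7 hc (by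
    rw [← SubmonoidClass.coe_pow, ← pow_mul]
    show (g ^ 196).1 = 1
    rw [h196]
    rfl)
  have h9 := hpow 49 ((LieClassical.SympCenter.mem_center_iff 4 (g ^ 49)).2 ⟨c, hcc⟩)
  omega

/-- The interface: a group with the element orders of `PSp₈(7^m)`. -/
theorem Spec8.of_range {F : Type*} [Field F] [Fintype F] [CharP F 7] {G : Type*} [Group G] [Finite G]
    (hup : ∀ x : PSp 4 F, H202.T.InL 7 (Fintype.card F) (orderOf x))
    (hm : ∃ x : PSp 4 F, orderOf x = 7 * (Fintype.card F ^ 3 - 1))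
    (hp : ∃ x : PSp 4 F, orderOf x = 7 * (Fintype.card F ^ 3 + 1))
    (h : Set.range (orderOf : G → ℕ) = Set.range (orderOf : PSp 4 F → ℕ)) : Spec8 (Fintype.card F) G := by
  have h1 : ∀ x : G, ∃ y : PSp 4 F, orderOf y = orderOf x := by
    intro x
    have h2 : orderOf x ∈ Set.range (orderOf : PSp 4 F → ℕ) := by rw [← h]; exact ⟨x, rfl⟩
    exact h2
  have h2 : ∀ y : PSp 4 F, ∃ x : G, orderOf x = orderOf y := by
    intro y
    have h2 : orderOf y ∈ Set.range (orderOf : G → ℕ) := by rw [h]; exact ⟨y, rfl⟩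
    exact h2
  refine ⟨⟨?_, fun x => ?_, fun x hx => ?_⟩, ?_, ?_⟩
  · obtain ⟨n, -, hn⟩ := FiniteField.card F 7
    exact ⟨n, n.2, hn⟩
  · obtain ⟨y, hy⟩ := h1 x
    rw [← hy]
    exact hup y
  · obtain ⟨y, hy⟩ := h1 x
    exact no98 y (hy.trans hx)
  · obtain ⟨y, hy⟩ := hm
    obtain ⟨x, hx⟩ := h2 y
    exact ⟨x, hx.trans hy⟩
  · obtain ⟨y, hy⟩ := hp
    obtain ⟨x, hx⟩ := h2 y
    exact ⟨x, hx.trans hy⟩

end Cfsg.Agent.H855.SpecE
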